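import Cfsg.Agent.EqLemmas

/-!
Burnside–Schur for cyclic groups of prime-power order (namespace `Cfsg.Agent.CyclicRegular`).

* `isMultiplyPretransitive_of_prime_pow`: a primitive group of degree `p ^ m`, `m ≥ 2`, with a regular
  cyclic subgroup is doubly transitive (the Schur-ring part follows S3559)
* `isMultiplyPretransitive_of_cycle`: the same, given an element of order `p ^ m`
* `not_pretransitive_normalClosure`: in the imprimitive case the normal closure of the cycle's
  `p ^ (m - 1)`-th power is intransitive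
-/

set_option autoImplicit false
open scoped Pointwise

namespace Cfsg.Agent.CyclicRegular

theorem count_false (n a b c p : ℕ) (hp : 2 ≤ p) (ha : a + 2 ≤ p) (hb : p ≤ b) (hc : 2 * p ≤ c)
    (hn : b + c = n) (hn2 : p * p ≤ n) (h : n * b + a ≤ a * a + 2 * a * b + b * b) : False := by
  subst hn
  rcases Nat.exists_eq_add_of_le ha with ⟨d, rfl⟩
  rcases Nat.exists_eq_add_of_le hb with ⟨e, rfl⟩
  rcases Nat.exists_eq_add_of_le hc with ⟨f, rfl⟩
  nlinarith [Nat.zero_le (e * f), Nat.zero_le (d * e), Nat.zero_le (a * d), Nat.zero_le (e * a),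
    Nat.zero_le (a * e * d)]

/-- A primitive group of degree `p ^ m` (`m ≥ 2`) with a regular cyclic subgroup is doubly transitive. -/
theorem isMultiplyPretransitive_of_prime_pow {G Ω : Type*} [Group G] [Finite G] [MulAction G Ω]
    [Finite Ω] (htrans : MulAction.IsPretransitive G Ω) (hprim : MulAction.IsPreprimitive G Ω)
    {p m : ℕ} (hp0 : p.Prime) (hm : 2 ≤ m) (hΩ : Nat.card Ω = p ^ m) (C : Subgroup G) (hcyc : IsCyclic ↥C)
    (hC : MulAction.IsPretransitive ↥C Ω ∧ ∀ a : Ω, MulAction.stabilizer ↥C a = ⊥) :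
    MulAction.IsMultiplyPretransitive G Ω 2 := by
  classical
  have hn : 2 ≤ Nat.card Ω := hΩ ▸ le_trans hp0.two_le (Nat.le_self_pow (by omega) p)
  have hCt := hC.1
  obtain ⟨a⟩ : Nonempty Ω := (Nat.card_pos_iff.1 (by omega)).1
  have : Nontrivial Ω := Finite.one_lt_card_iff_nontrivial.1 (by omega)
  let _ : CommGroup C := IsCyclic.commGroup
  have : Fintype C := Fintype.ofFinite _
  set H := MulAction.stabilizer G a with hH
  -- labelling of the points by `C`
  have hinj : ∀ x y : C, (x : G) • a = (y : G) • a → x = y := by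
    intro x y h
    have h' : y⁻¹ * x ∈ MulAction.stabilizer C a := by
      rw [MulAction.mem_stabilizer_iff, mul_smul]
      show ((y⁻¹ : C) : G) • (x : G) • a = a
      rw [h, Subgroup.coe_inv, inv_smul_smul]
    rw [hC.2 a, Subgroup.mem_bot] at h'
    exact (inv_mul_eq_one.1 h').symm
  have hsurj : ∀ u : Ω, ∃ x : C, (x : G) • a = u := fun u => MulAction.exists_smul_eq C a u
  have hcard : Nat.card C = Nat.card Ω :=
    Nat.card_congr (Equiv.ofBijective (fun x : C => (x : G) • a) ⟨hinj, hsurj⟩)
  -- the Schur relation: `y` lies in the orbit of `x`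
  let R : C → C → Prop := fun x y => ∃ h ∈ H, (h * x) • a = (y : G) • a
  have hRrefl : ∀ x, R x x := fun x => ⟨1, one_mem _, by rw [one_mul]⟩
  have hRsymm : ∀ x y, R x y → R y x := fun x y ⟨h, hh, e⟩ =>
    ⟨h⁻¹, inv_mem hh, by rw [mul_smul, ← e, mul_smul, inv_smul_smul]⟩
  have hRtrans : ∀ x y z, R x y → R y z → R x z := fun x y z ⟨h, hh, e⟩ ⟨k, hk, e'⟩ =>
    ⟨k * h, mul_mem hk hh, by
      rw [mul_assoc, mul_smul, e, ← mul_smul, e']⟩
  -- compatibility with translations
  have hconv : ∀ x y x' y' : C, ∀ h ∈ H, (h * x) • a = (x' : G) • a →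
      (h * y) • a = (y' : G) • a → R (x⁻¹ * y) (x'⁻¹ * y') := by
    intro x y x' y' h hh ex ey
    refine ⟨(x' : G)⁻¹ * h * x, ?_, ?_⟩
    · rw [MulAction.mem_stabilizer_iff, mul_assoc, mul_smul, ex, inv_smul_smul]
    · calc ((x' : G)⁻¹ * h * x * ((x⁻¹ * y : C) : G)) • a
          = ((x' : G)⁻¹ * (h * y)) • a := by simp [mul_assoc]
        _ = ((x'⁻¹ * y' : C) : G) • a := by
          rw [mul_smul, ey, ← mul_smul]; simp
  -- an invariant set generates everything
  have hgen : ∀ O : Set C, (∀ x ∈ O, ∀ y, R x y → y ∈ O) → (∃ x ∈ O, x ≠ 1) →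
      Subgroup.closure O = ⊤ := by
    intro O hO hne
    set L := Subgroup.closure O with hL
    have hLinv : ∀ l ∈ L, ∀ y, R l y → y ∈ L := by
      intro l hl
      induction hl using Subgroup.closure_induction_right with
      | one =>
        rintro y ⟨h, hh, e⟩
        have : (1 : C) = y := hinj _ _ (by
          rw [← e, OneMemClass.coe_one, mul_one, MulAction.mem_stabilizer_iff.1 hh, one_smul])
        exact this ▸ one_mem _
      | mul_right l hl o ho ih =>
        rintro y ⟨h, hh, e⟩
        obtain ⟨l', hl'⟩ := hsurj ((h * l) • a)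
        have h1 : R (l⁻¹ * (l * o)) (l'⁻¹ * y) := hconv l (l * o) l' y h hh hl'.symm e
        rw [inv_mul_cancel_left] at h1
        rw [show y = l' * (l'⁻¹ * y) by group]
        exact mul_mem (ih l' ⟨h, hh, hl'.symm⟩) (Subgroup.subset_closure (hO o ho _ h1))
      | mul_inv_cancel l hl o ho ih =>
        rintro y ⟨h, hh, e⟩
        obtain ⟨l', hl'⟩ := hsurj ((h * l) • a)
        have h1 : R ((l * o⁻¹)⁻¹ * l) (y⁻¹ * l') := hconv _ l y l' h hh e hl'.symm
        rw [show (l * o⁻¹)⁻¹ * l = o by group] at h1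
        rw [show y = l' * (y⁻¹ * l')⁻¹ by group]
        exact mul_mem (ih l' ⟨h, hh, hl'.symm⟩)
          (inv_mem (Subgroup.subset_closure (hO o ho _ h1)))
    let S : Set Ω := {u | ∃ l ∈ L, (l : G) • a = u}
    have hHS : ∀ h ∈ H, h ∈ MulAction.stabilizer G S := by
      intro h hh
      rw [MulAction.mem_stabilizer_set_iff_subset_smul_set (Set.toFinite _)]
      rintro _ ⟨l, hl, rfl⟩
      obtain ⟨l', hl'⟩ := hsurj ((h⁻¹ * l) • a)
      refine ⟨(l' : G) • a, ⟨l', hLinv l hl l' ⟨h⁻¹, inv_mem hh, hl'.symm⟩, rfl⟩, ?_⟩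
      show h • (l' : G) • a = _
      rw [hl', mul_smul, smul_inv_smul]
    have hLS : ∀ l ∈ L, (l : G) ∈ MulAction.stabilizer G S := by
      intro l hl
      rw [MulAction.mem_stabilizer_set_iff_subset_smul_set (Set.toFinite _)]
      rintro _ ⟨m, hm, rfl⟩
      refine ⟨((l⁻¹ * m : C) : G) • a, ⟨_, mul_mem (inv_mem hl) hm, rfl⟩, ?_⟩
      show (l : G) • ((l⁻¹ * m : C) : G) • a = _
      rw [← mul_smul]; simp
    obtain ⟨x, hxO, hx⟩ := hne
    have hco : IsCoatom H := (MulAction.isCoatom_stabilizer_iff_preprimitive G a).2 hprim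
    have htop : MulAction.stabilizer G S = ⊤ := by
      refine hco.2 _ (lt_of_le_of_ne hHS fun e => hx (hinj x 1 ?_))
      rw [OneMemClass.coe_one, one_smul]
      exact (e.symm ▸ hLS x (Subgroup.subset_closure hxO) : (x : G) ∈ H)
    rw [eq_top_iff]
    intro y _
    have h1 : (y : G) • a ∈ (y : G) • S := Set.smul_mem_smul_set ⟨1, one_mem _, by simp⟩
    rw [MulAction.mem_stabilizer_iff.1 (htop.symm ▸ Subgroup.mem_top (y : G))] at h1
    obtain ⟨l, hl, e⟩ := h1
    exact hinj l y e ▸ hl
  -- basic sets contain elements of each prime order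
  have hmeet : ∀ p : ℕ, p.Prime → p ∣ Nat.card Ω → ∀ x : C, x ≠ 1 →
      (∃ y, R x y ∧ y ≠ 1 ∧ y ^ p = 1) ∧ ∀ u, u ^ p = 1 → x ^ p ≠ 1 → R x (x * u) := by
    intro p hp hpn x hx
    have := Fact.mk hp
    let T : Finset C := Finset.univ.filter (R x)
    let A : MonoidAlgebra (ZMod p) C := ∑ t ∈ T, MonoidAlgebra.single t 1
    -- coefficients of powers of the basic set are invariant
    have hinv : ∀ (k : ℕ) (y y' : C), R y y' → (A ^ k).coeff y = (A ^ k).coeff y' := by
      intro k
      induction k with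
      | zero =>
        intro y y' hyy
        have h1 : y = 1 ↔ y' = 1 := by
          constructor
          · rintro rfl
            obtain ⟨h, hh, e⟩ := hyy
            exact hinj _ _ (by rw [← e, OneMemClass.coe_one, mul_one,
              MulAction.mem_stabilizer_iff.1 hh, one_smul])
          · rintro rfl
            obtain ⟨h, hh, e⟩ := hRsymm _ _ hyy
            exact hinj _ _ (by rw [← e, OneMemClass.coe_one, mul_one,
              MulAction.mem_stabilizer_iff.1 hh, one_smul])
        simp [MonoidAlgebra.one_def, MonoidAlgebra.coeff_single, Finsupp.single_apply, eq_comm, h1]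
      | succ k ih =>
        intro y y' ⟨h, hh, e⟩
        have hexp : ∀ z : C, (A ^ (k + 1)).coeff z
            = ∑ w : C, if R x (w⁻¹ * z) then (A ^ k).coeff w else 0 := by
          intro z
          rw [pow_succ, Finset.mul_sum, MonoidAlgebra.coeff_sum, Finset.sum_apply',
            ← Finset.sum_filter]
          refine Finset.sum_nbij' (fun t => z * t⁻¹) (fun w => w⁻¹ * z) ?_ ?_ ?_ ?_ ?_
          · intro t ht; simpa [T, mul_comm z t⁻¹] using ht
          · intro w hw; simpa [T] using hw
          · intro t _; simp [mul_comm z t⁻¹]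
          · intro w _; simp [mul_comm w⁻¹ z]
          · intro t _; simp [MonoidAlgebra.coeff_mul_single_apply]
        rw [hexp, hexp]
        choose π hπ using fun w : C => hsurj ((h * w) • a)
        have hπi : Function.Injective π := fun w w' e' => hinj _ _ (by
          have h2 := (hπ w).symm.trans ((congrArg (fun v : C => (v : G) • a) e').trans (hπ w'))
          rw [mul_smul, mul_smul] at h2
          exact MulAction.injective h h2)
        refine Fintype.sum_bijective π (Finite.injective_iff_bijective.1 hπi) _ _ fun w => ?_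
        have h1 : R (w⁻¹ * y) ((π w)⁻¹ * y') := hconv w y (π w) y' h hh (hπ w).symm e
        have h2 : R x (w⁻¹ * y) ↔ R x ((π w)⁻¹ * y') :=
          ⟨fun h3 => hRtrans _ _ _ h3 h1, fun h3 => hRtrans _ _ _ h3 (hRsymm _ _ h1)⟩
        rw [ih w (π w) ⟨h, hh, (hπ w).symm⟩]
        simp only [h2]
    have hAp : ∀ z, (A ^ p).coeff z = ((T.filter fun t => t ^ p = z).card : ZMod p) := by
      intro z
      have : CharP (MonoidAlgebra (ZMod p) C) p :=
        charP_of_injective_algebraMap (FaithfulSMul.algebraMap_injective (ZMod p) _) p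
      rw [sum_pow_char p T fun t => MonoidAlgebra.single t (1 : ZMod p), MonoidAlgebra.coeff_sum,
        Finset.sum_apply', Finset.natCast_card_filter]
      refine Finset.sum_congr rfl fun t _ => ?_
      simp [MonoidAlgebra.single_pow, MonoidAlgebra.coeff_single, Finsupp.single_apply]
    have hzero : ∀ z, z ≠ 1 → ((T.filter fun t => t ^ p = z).card : ZMod p) = 0 := by
      intro z hz
      by_contra hne
      have hsub : Subgroup.closure {y : C | R z y} ≤ (powMonoidHom p : C →* C).range := by
        rw [Subgroup.closure_le]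
        intro y hy
        have h1 : ((T.filter fun t => t ^ p = y).card : ZMod p) ≠ 0 := by
          rwa [← hAp, ← hinv p z y hy, hAp]
        obtain ⟨t, ht⟩ := Finset.card_pos.1 (Nat.pos_of_ne_zero fun e => h1 (by rw [e, Nat.cast_zero]))
        exact ⟨t, (Finset.mem_filter.1 ht).2⟩
      rw [hgen {y | R z y} (fun u hu v hv => hRtrans z u v hu hv) ⟨z, hRrefl z, hz⟩,
        top_le_iff, MonoidHom.range_eq_top] at hsub
      obtain ⟨w, hw⟩ := exists_prime_orderOf_dvd_card' p (hcard.symm ▸ hpn : p ∣ Nat.card C)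
      have h1 : w = 1 := (Finite.injective_iff_surjective.2 hsub) (by
        show w ^ p = 1 ^ p
        rw [← hw, pow_orderOf_eq_one, one_pow])
      rw [h1, orderOf_one] at hw
      exact hp.ne_one hw.symm
    -- cosets of the subgroup of order `p`
    have hstar : ∀ t u, R x t → t ^ p ≠ 1 → u ^ p = 1 → R x (t * u) := by
      intro t u ht htp hu
      have hdvd := (ZMod.natCast_eq_zero_iff _ p).1 (hzero _ htp)
      have hsub : (T.filter fun s => s ^ p = t ^ p)
          ⊆ (Finset.univ.filter fun v : C => v ^ p = 1).image (t * ·) := by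
        intro s hs
        refine Finset.mem_image.2 ⟨t⁻¹ * s, ?_, mul_inv_cancel_left _ _⟩
        simp only [Finset.mem_filter, Finset.mem_univ, true_and, mul_pow, inv_pow,
          (Finset.mem_filter.1 hs).2, inv_mul_cancel]
      have hle : ((Finset.univ.filter fun v : C => v ^ p = 1).image (t * ·)).card ≤ p :=
        le_trans Finset.card_image_le (IsCyclic.card_pow_eq_one_le hp.pos)
      have hpos : 0 < (T.filter fun s => s ^ p = t ^ p).card :=
        Finset.card_pos.2 ⟨t, by simp [T, ht]⟩
      have hmem : t * u ∈ T.filter fun s => s ^ p = t ^ p := by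
        rw [Finset.eq_of_subset_of_card_le hsub (hle.trans (Nat.le_of_dvd hpos hdvd))]
        exact Finset.mem_image.2 ⟨u, by simp [hu], rfl⟩
      simpa [T] using (Finset.mem_filter.1 hmem).1
    refine ⟨?_, fun u hu hxp => hstar x u (hRrefl x) hxp hu⟩
    by_contra hno
    push Not at hno
    have hne1 : ∀ t, R x t → t ^ p ≠ 1 := by
      intro t ht
      refine hno t ht ?_
      rintro rfl
      obtain ⟨h, hh, e⟩ := hRsymm _ _ ht
      exact hx (hinj x 1 (by rw [← e, OneMemClass.coe_one, mul_one,
        MulAction.mem_stabilizer_iff.1 hh, one_smul]))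
    -- the translations fixing the basic set
    let St : Set C := {u | ∀ t, R x t ↔ R x (u⁻¹ * t)}
    obtain ⟨w, hw⟩ := exists_prime_orderOf_dvd_card' p (hcard.symm ▸ hpn : p ∣ Nat.card C)
    have hwp : w ^ p = 1 := by rw [← hw, pow_orderOf_eq_one]
    have hwSt : w ∈ St := fun t =>
      ⟨fun ht => by rw [mul_comm]; exact hstar t _ ht (hne1 t ht) (by simp [hwp]), fun ht => by
        have := hstar _ w ht (hne1 _ ht) hwp
        rwa [mul_comm w⁻¹ t, inv_mul_cancel_right] at this⟩
    have htop := hgen St (by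
      intro u hu v ⟨h, hh, e⟩ t
      obtain ⟨t₀, ht₀⟩ := hsurj ((h⁻¹ * t) • a)
      have e₀ : (h * t₀) • a = (t : G) • a := by rw [mul_smul, ht₀, mul_smul, smul_inv_smul]
      have h1 : R (u⁻¹ * t₀) (v⁻¹ * t) := hconv u t₀ v t h hh e e₀
      have h2 : R t₀ t := ⟨h, hh, e₀⟩
      constructor
      · intro h3
        exact hRtrans _ _ _ ((hu t₀).1 (hRtrans _ _ _ h3 (hRsymm _ _ h2))) h1
      · intro h3
        exact hRtrans _ _ _ ((hu t₀).2 (hRtrans _ _ _ h3 (hRsymm _ _ h1))) h2)
      ⟨w, hwSt, fun e => by rw [e, orderOf_one] at hw; exact hp.ne_one hw.symm⟩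
    let StG : Subgroup C :=
      { carrier := St
        one_mem' := fun t => by simp
        mul_mem' := fun {u v} hu hv t => (hu t).trans ((hv _).trans (by rw [mul_inv_rev, mul_assoc]))
        inv_mem' := fun {u} hu t => by rw [inv_inv, hu (u * t), inv_mul_cancel_left] }
    have hall : x ∈ StG := top_le_iff.2 htop |>.trans ((Subgroup.closure_le StG).2 le_rfl)
      (Subgroup.mem_top x)
    have h1 : R x 1 := by simpa using (hall x).1 (hRrefl x)
    obtain ⟨h, hh, e⟩ := hRsymm _ _ h1
    exact hx (hinj x 1 (by rw [← e, OneMemClass.coe_one, mul_one,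
      MulAction.mem_stabilizer_iff.1 hh, one_smul]))
  have hpn : p ∣ Nat.card Ω := hΩ ▸ dvd_pow_self p (by omega)
  have := Fact.mk hp0
  have hR1 : ∀ {x y : C}, R x y → x ≠ 1 → y ≠ 1 := by
    intro x y hxy hx hy
    obtain ⟨h, hh, e⟩ := hRsymm _ _ hxy
    subst hy
    exact hx (hinj _ _ (by rw [← e, OneMemClass.coe_one, mul_one,
      MulAction.mem_stabilizer_iff.1 hh, one_smul])).symm
  let U : Finset C := Finset.univ.filter fun u : C => u ^ p = 1
  have hU : U.card ≤ p := IsCyclic.card_pow_eq_one_le hp0.pos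
  let big : Finset C := Finset.univ.filter fun u : C => u ^ p ≠ 1
  have hUb : big.card + U.card = Nat.card C := by
    rw [Nat.card_eq_fintype_card, ← Finset.card_univ, add_comm]
    exact Finset.card_filter_add_card_filter_not _
  have hUp : U.card = p := by
    refine le_antisymm hU ?_
    obtain ⟨w, hw⟩ := exists_prime_orderOf_dvd_card' p (hcard.symm ▸ hpn : p ∣ Nat.card C)
    have hsub : (Finset.range p).image (w ^ ·) ⊆ U := by
      intro u hu
      obtain ⟨i, -, rfl⟩ := Finset.mem_image.1 hu
      refine Finset.mem_filter.2 ⟨Finset.mem_univ _, ?_⟩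
      rw [← pow_mul, mul_comm, pow_mul, ← hw, pow_orderOf_eq_one, one_pow]
    refine le_trans (le_of_eq ?_) (Finset.card_le_card hsub)
    rw [Finset.card_image_of_injOn, Finset.card_range]
    intro i hi j hj e
    exact pow_injOn_Iio_orderOf (hw.symm ▸ Finset.mem_range.1 hi) (hw.symm ▸ Finset.mem_range.1 hj) e
  have hone : ∀ x y : C, x ≠ 1 → y ≠ 1 → R x y := by
    by_contra hcon
    push Not at hcon
    obtain ⟨x, y, hx, hy, hxy⟩ := hcon
    -- each class has an element of order `p` and a whole coset of the subgroup of order `p`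
    have hbig : ∀ z : C, z ≠ 1 → ∃ s, R z s ∧ s ^ p ≠ 1 := by
      intro z hz
      by_contra hno
      push Not at hno
      have hle : Subgroup.closure {v : C | R z v} ≤ (powMonoidHom p : C →* C).ker :=
        (Subgroup.closure_le _).2 fun v hv => hno v hv
      rw [hgen {v | R z v} (fun u hu v hv => hRtrans z u v hu hv) ⟨z, hRrefl z, hz⟩] at hle
      have hall : (Finset.univ : Finset C) ⊆ U := fun v _ =>
        Finset.mem_filter.2 ⟨Finset.mem_univ _, hle (Subgroup.mem_top v)⟩
      have := (Finset.card_le_card hall).trans hU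
      rw [Finset.card_univ, ← Nat.card_eq_fintype_card, hcard, hΩ] at this
      have h2 : p ^ 2 ≤ p ^ m := Nat.pow_le_pow_right hp0.pos hm
      nlinarith [hp0.two_le]
    let T : C → Finset C := fun z => Finset.univ.filter (R z)
    let B : C → Finset C := fun z => (T z).filter fun s => s ^ p ≠ 1
    let A : C → Finset C := fun z => (T z).filter fun s => s ^ p = 1
    have hT : ∀ {z s}, s ∈ T z ↔ R z s := fun {z s} => by simp [T]
    have hBp : ∀ z, z ≠ 1 → p ≤ (B z).card := by
      intro z hz
      obtain ⟨s, hs, hsp⟩ := hbig z hz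
      rw [← hUp, ← Finset.card_image_of_injective U (mul_right_injective s)]
      refine Finset.card_le_card fun v hv => ?_
      obtain ⟨u, hu, rfl⟩ := Finset.mem_image.1 hv
      have hu' : u ^ p = 1 := (Finset.mem_filter.1 hu).2
      refine Finset.mem_filter.2 ⟨hT.2 (hRtrans _ _ _ hs ?_), by rw [mul_pow, hu', mul_one]; exact hsp⟩
      exact (hmeet p hp0 hpn s (fun e => hsp (by rw [e, one_pow]))).2 u hu' hsp
    have hAp : ∀ z, z ≠ 1 → ∃ u ∈ A z, u ≠ 1 := by
      intro z hz
      obtain ⟨u, hu, hu1, hup⟩ := (hmeet p hp0 hpn z hz).1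
      exact ⟨u, Finset.mem_filter.2 ⟨hT.2 hu, hup⟩, hu1⟩
    have hA1 : ∀ z, z ≠ 1 → (1 : C) ∉ T z := fun z hz h1 => hR1 (hT.1 h1) hz rfl
    -- the two classes are disjoint
    have hdisj : Disjoint (T x) (T y) := Finset.disjoint_left.2 fun s h1 h2 =>
      hxy (hRtrans _ _ _ (hT.1 h1) (hRsymm _ _ (hT.1 h2)))
    have hAd : (A x).card + (A y).card + 1 ≤ p := by
      have hsub : insert 1 (A x ∪ A y) ⊆ U := by
        intro v hv
        refine Finset.mem_filter.2 ⟨Finset.mem_univ _, ?_⟩
        rcases Finset.mem_insert.1 hv with rfl | hv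
        · exact one_pow p
        · rcases Finset.mem_union.1 hv with hv | hv <;> exact (Finset.mem_filter.1 hv).2
      have := (Finset.card_le_card hsub).trans hU
      rw [Finset.card_insert_of_notMem, Finset.card_union_of_disjoint
        (hdisj.mono (Finset.filter_subset _ _) (Finset.filter_subset _ _))] at this
      · exact this
      · simp only [Finset.mem_union, not_or]
        exact ⟨fun h => hA1 x hx (Finset.mem_filter.1 h).1, fun h => hA1 y hy (Finset.mem_filter.1 h).1⟩
    have hAy : 1 ≤ (A y).card := by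
      obtain ⟨u, hu, -⟩ := hAp y hy
      exact Finset.card_pos.2 ⟨u, hu⟩
    have hBd : (B x).card + (B y).card ≤ big.card := by
      rw [← Finset.card_union_of_disjoint (hdisj.mono (Finset.filter_subset _ _) (Finset.filter_subset _ _))]
      refine Finset.card_le_card fun v hv => Finset.mem_filter.2 ⟨Finset.mem_univ _, ?_⟩
      rcases Finset.mem_union.1 hv with hv | hv <;> exact (Finset.mem_filter.1 hv).2
    -- the number of common successors is invariant
    let N : C → ℕ := fun v => (Finset.univ.filter fun s => R x s ∧ R x (v⁻¹ * s)).card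
    have hNinv : ∀ v v', R v v' → N v ≤ N v' := by
      rintro v v' ⟨h, hh, e⟩
      choose π hπ using fun w : C => hsurj ((h * w) • a)
      have hπi : Function.Injective π := fun w w' e' => hinj _ _ (by
        have h2 := (hπ w).symm.trans ((congrArg (fun v : C => (v : G) • a) e').trans (hπ w'))
        rw [mul_smul, mul_smul] at h2
        exact MulAction.injective h h2)
      refine Finset.card_le_card_of_injOn π (fun s hs => ?_) hπi.injOn
      simp only [Finset.coe_filter, Finset.mem_univ, true_and, Set.mem_setOf_eq] at hs ⊢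
      exact ⟨hRtrans _ _ _ hs.1 ⟨h, hh, (hπ s).symm⟩,
        hRtrans _ _ _ hs.2 (hconv v s v' (π s) h hh e (hπ s).symm)⟩
    have hN1 : N 1 = (T x).card := congrArg Finset.card (Finset.ext fun s => by simp [T])
    have hNb : ∀ v : C, v ≠ 1 → (B x).card ≤ N v := by
      intro v hv
      obtain ⟨u, hvu, -, hup⟩ := (hmeet p hp0 hpn v hv).1
      refine le_trans ?_ (hNinv u v (hRsymm _ _ hvu))
      refine Finset.card_le_card fun s hs => ?_
      obtain ⟨hs, hsp⟩ := Finset.mem_filter.1 hs
      refine Finset.mem_filter.2 ⟨Finset.mem_univ _, hT.1 hs, ?_⟩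
      rw [mul_comm]
      exact hRtrans _ _ _ (hT.1 hs) ((hmeet p hp0 hpn s (fun e => hsp (by rw [e, one_pow]))).2 u⁻¹
        (by rw [inv_pow, hup, inv_one]) hsp)
    have hsum : ∑ v : C, N v = (T x).card * (T x).card := by
      have e1 : ∀ v : C, N v = ∑ s ∈ T x, if R x (v⁻¹ * s) then 1 else 0 := by
        intro v
        rw [← Finset.card_filter]
        exact congrArg Finset.card (Finset.ext fun s => by simp [T])
      simp only [e1]
      rw [Finset.sum_comm, Finset.card_eq_sum_ones (T x), Finset.sum_mul]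
      refine Finset.sum_congr rfl fun s hs => ?_
      rw [one_mul, ← Finset.card_filter, ← Finset.card_eq_sum_ones]
      refine Finset.card_bij' (fun v _ => v⁻¹ * s) (fun t _ => s * t⁻¹) ?_ ?_ ?_ ?_
      · intro v hv; exact hT.2 (Finset.mem_filter.1 hv).2
      · intro t ht
        refine Finset.mem_filter.2 ⟨Finset.mem_univ _, ?_⟩
        rw [show (s * t⁻¹)⁻¹ * s = t by group]
        exact hT.1 ht
      · intro v _; simp [mul_comm v⁻¹ s]
      · intro t _; simp [mul_comm s t⁻¹]
    have hlow : (T x).card + (Nat.card C - 1) * (B x).card ≤ ∑ v : C, N v := by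
      rw [← Finset.add_sum_erase _ _ (Finset.mem_univ (1 : C)), hN1]
      refine Nat.add_le_add_left ?_ _
      have := Finset.card_nsmul_le_sum (Finset.univ.erase (1 : C)) N (B x).card
        fun v hv => hNb v (Finset.ne_of_mem_erase hv)
      rwa [Finset.card_erase_of_mem (Finset.mem_univ _), Finset.card_univ,
        ← Nat.card_eq_fintype_card, smul_eq_mul] at this
    have hTx : (T x).card = (A x).card + (B x).card :=
      (Finset.card_filter_add_card_filter_not _).symm
    have hby := hBp y hy
    have hbx := hBp x hx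
    have hn2 : p * p ≤ Nat.card C := by
      rw [hcard, hΩ, ← sq]
      exact Nat.pow_le_pow_right hp0.pos hm
    refine count_false (Nat.card C) (A x).card (B x).card (Nat.card C - (B x).card) p hp0.two_le
      (by omega) hbx (by omega) (by omega) hn2 ?_
    obtain ⟨k, hk⟩ := Nat.exists_eq_add_of_le (show 1 ≤ Nat.card C from Nat.card_pos)
    rw [hsum, hTx, hk, Nat.add_sub_cancel_left] at hlow
    rw [hk]
    nlinarith [hlow]
  rw [MulAction.is_two_pretransitive_iff]
  intro b c d e hbc hde
  obtain ⟨g₁, hg₁⟩ := MulAction.exists_smul_eq G b a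
  obtain ⟨g₂, hg₂⟩ := MulAction.exists_smul_eq G d a
  obtain ⟨x, hx⟩ := hsurj (g₁ • c)
  obtain ⟨y, hy⟩ := hsurj (g₂ • e)
  have hx1 : x ≠ 1 := by
    rintro rfl
    rw [OneMemClass.coe_one, one_smul, ← hg₁] at hx
    exact hbc (MulAction.injective g₁ hx)
  have hy1 : y ≠ 1 := by
    rintro rfl
    rw [OneMemClass.coe_one, one_smul, ← hg₂] at hy
    exact hde (MulAction.injective g₂ hy)
  obtain ⟨h, hh, eh⟩ := hone x y hx1 hy1
  refine ⟨g₂⁻¹ * h * g₁, ?_, ?_⟩
  · rw [mul_smul, mul_smul, hg₁, MulAction.mem_stabilizer_iff.1 hh, ← hg₂, inv_smul_smul]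
  · rw [mul_smul, mul_smul, ← hx, ← mul_smul h, eh, hy, inv_smul_smul]

theorem eq_bot_of_index {G : Type*} [Group G] [Finite G] {S : Subgroup G} (h : S.index = Nat.card G) :
    S = ⊥ := by
  refine Subgroup.card_eq_one.1 ?_
  have := S.card_mul_index
  rw [h] at this
  exact Nat.eq_of_mul_eq_mul_right Nat.card_pos (by rw [this, one_mul])

/-- An element of order `p ^ m` acting faithfully on `p ^ m` points generates a regular subgroup. -/
theorem regular_zpowers {G Ω : Type*} [Group G] [Finite G] [MulAction G Ω] [FaithfulSMul G Ω] [Finite Ω]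
    {p m : ℕ} (hp : p.Prime) (hm : 1 ≤ m) (hΩ : Nat.card Ω = p ^ m) {g : G} (hg : orderOf g = p ^ m) :
    MulAction.IsPretransitive (Subgroup.zpowers g) Ω ∧
      ∀ a : Ω, MulAction.stabilizer (Subgroup.zpowers g) a = ⊥ := by
  classical
  set C := Subgroup.zpowers g
  have hC : Nat.card C = p ^ m := by rw [Nat.card_zpowers, hg]
  have htr : MulAction.IsPretransitive C Ω := by
    by_contra hnt
    have hfix : ∀ a : Ω, g ^ p ^ (m - 1) • a = a := by
      intro a
      set S := MulAction.stabilizer C a
      obtain ⟨i, hi, hidx⟩ := (Nat.dvd_prime_pow hp).1 (hC ▸ S.index_dvd_card)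
      have hlt : i < m := by
        refine lt_of_le_of_ne hi fun he => hnt ?_
        rw [he, MulAction.index_stabilizer] at hidx
        have hall : MulAction.orbit C a = Set.univ :=
          Set.eq_of_subset_of_ncard_le (Set.subset_univ _)
            (by rw [Set.ncard_univ, hΩ, hidx]) (Set.toFinite _)
        refine ⟨fun u v => ?_⟩
        obtain ⟨c, hc⟩ := MulAction.mem_orbit_iff.1 (hall.ge (Set.mem_univ u))
        obtain ⟨d, hd⟩ := MulAction.mem_orbit_iff.1 (hall.ge (Set.mem_univ v))
        exact ⟨d * c⁻¹, by rw [← hc, mul_smul, inv_smul_smul, hd]⟩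
      haveI : S.Normal := Subgroup.normal_of_isMulCommutative S
      have := Subgroup.pow_index_mem S (⟨g, Subgroup.mem_zpowers g⟩ : C)
      rw [hidx] at this
      obtain ⟨j, hj⟩ := pow_dvd_pow p (show i ≤ m - 1 by omega)
      have h2 := MulAction.mem_stabilizer_iff.1 (S.pow_mem this j)
      rw [← pow_mul, ← hj] at h2
      exact h2
    have h1 : g ^ p ^ (m - 1) = 1 := eq_of_smul_eq_smul fun a => by rw [hfix a, one_smul]
    have h2 := Nat.le_of_dvd (pow_pos hp.pos _) (orderOf_dvd_of_pow_eq_one h1)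
    rw [hg] at h2
    have := (Nat.pow_le_pow_iff_right hp.one_lt).1 h2
    omega
  refine ⟨htr, fun a => ?_⟩
  have h := MulAction.index_stabilizer C a
  rw [MulAction.orbit_eq_univ, Set.ncard_univ, hΩ, ← hC] at h
  exact eq_bot_of_index h

theorem isMultiplyPretransitive_of_cycle {G Ω : Type*} [Group G] [Finite G] [MulAction G Ω]
    [FaithfulSMul G Ω] [Finite Ω] (htrans : MulAction.IsPretransitive G Ω)
    (hprim : MulAction.IsPreprimitive G Ω) {p m : ℕ} (hp : p.Prime) (hm : 2 ≤ m)
    (hΩ : Nat.card Ω = p ^ m) {g : G} (hg : orderOf g = p ^ m) :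
    MulAction.IsMultiplyPretransitive G Ω 2 :=
  isMultiplyPretransitive_of_prime_pow htrans hprim hp hm hΩ (Subgroup.zpowers g) inferInstance
    (regular_zpowers hp (by omega) hΩ hg)

/-- In a transitive group with a cycle of order `p ^ m`, `m ≥ 1`, that has a non-trivial block, the normal closure of
the `p ^ (m - 1)`-th power of the cycle fixes every block, hence is intransitive. -/
theorem not_pretransitive_normalClosure {G Ω : Type*} [Group G] [Finite G] [MulAction G Ω]
    [FaithfulSMul G Ω] [Finite Ω] (htrans : MulAction.IsPretransitive G Ω) {p m : ℕ} (hp : p.Prime)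
    (hm : 1 ≤ m) (hΩ : Nat.card Ω = p ^ m) {g : G} (hg : orderOf g = p ^ m) {B : Set Ω}
    (hB : MulAction.IsBlock G B) (hnt : ¬ MulAction.IsTrivialBlock B) :
    ¬ MulAction.IsPretransitive (Subgroup.normalClosure ({g ^ p ^ (m - 1)} : Set G)) Ω := by
  classical
  obtain ⟨htr, hst⟩ := regular_zpowers hp hm hΩ hg
  rw [MulAction.IsTrivialBlock, not_or, Set.not_subsingleton_iff] at hnt
  obtain ⟨⟨a, ha, b, hb, hab⟩, hB2⟩ := hnt
  set C := Subgroup.zpowers g
  set S := (MulAction.stabilizer G B).subgroupOf C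
  have hS : S ≠ ⊥ := by
    obtain ⟨c, hc⟩ := MulAction.exists_smul_eq C a b
    refine fun h => hab ?_
    have hmem : c ∈ S := by
      rw [Subgroup.mem_subgroupOf, MulAction.mem_stabilizer_iff]
      rcases hB.smul_eq_or_disjoint (c : G) with h | h
      · exact h
      · exact absurd hb (Set.disjoint_left.1 h ⟨a, ha, hc⟩)
    rw [h, Subgroup.mem_bot] at hmem
    rw [← hc, hmem, one_smul]
  have hC : Nat.card C = p ^ m := by rw [Nat.card_zpowers, hg]
  haveI : S.Normal := Subgroup.normal_of_isMulCommutative S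
  obtain ⟨i, hi, hidx⟩ := (Nat.dvd_prime_pow hp).1 (hC ▸ S.index_dvd_card)
  have hlt : i < m := lt_of_le_of_ne hi fun he => hS (eq_bot_of_index (by rw [hidx, he, hC]))
  set z := g ^ p ^ (m - 1) with hzdef
  have hzB : z • B = B := by
    have := Subgroup.pow_index_mem S (⟨g, Subgroup.mem_zpowers g⟩ : C)
    rw [hidx] at this
    obtain ⟨j, hj⟩ := pow_dvd_pow p (show i ≤ m - 1 by omega)
    have h2 := S.pow_mem this j
    rw [← pow_mul, ← hj, Subgroup.mem_subgroupOf, MulAction.mem_stabilizer_iff] at h2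
    exact h2
  -- every translate of the block is a translate by the cycle
  have htra : ∀ y : G, ∃ c ∈ C, y • B = c • B := by
    intro y
    obtain ⟨c, hc⟩ := MulAction.exists_smul_eq C a (y • a)
    exact ⟨c, c.2, (hB.smul_eq_smul_or_disjoint y (c : G)).resolve_right fun h =>
      Set.disjoint_left.1 h ⟨a, ha, rfl⟩ ⟨a, ha, hc⟩⟩
  have hle : Subgroup.normalClosure ({z} : Set G) ≤ MulAction.stabilizer G B := by
    rw [Subgroup.normalClosure, Subgroup.closure_le]
    intro w hw
    obtain ⟨z', hz', hconj⟩ := Group.mem_conjugatesOfSet_iff.1 hw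
    rw [Set.mem_singleton_iff] at hz'
    subst hz'
    obtain ⟨y, rfl⟩ := isConj_iff.1 hconj
    obtain ⟨c, hc, hyc⟩ := htra y⁻¹
    rw [SetLike.mem_coe, MulAction.mem_stabilizer_iff, mul_smul, mul_smul, hyc, ← mul_smul z c]
    have hcz : z * c = c * z := by
      obtain ⟨l, rfl⟩ := Subgroup.mem_zpowers_iff.1 hc
      exact ((Commute.pow_self g _).zpow_right l).eq
    rw [hcz, mul_smul, hzB, ← hyc, smul_inv_smul]
  intro htrN
  refine hB2 (Set.eq_univ_of_forall fun x => ?_)
  obtain ⟨w, hw⟩ := MulAction.exists_smul_eq (Subgroup.normalClosure ({z} : Set G)) a x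
  rw [← MulAction.mem_stabilizer_iff.1 (hle w.2)]
  exact ⟨a, ha, hw⟩

end Cfsg.Agent.CyclicRegular
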